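import Groth.Agent.DerPerf.Tensor
import Mathlib.LinearAlgebra.Matrix.ToLinearEquiv
import Mathlib.LinearAlgebra.Dimension.Free

/-!
# Fibres of modules at field-valued points
-/

set_option backward.isDefEq.respectTransparency false
set_option backward.isDefEq.respectTransparency.types false
set_option linter.style.haveILetI false
set_option autoImplicit false

universe u

open CategoryTheory Limits AlgebraicGeometry TensorProduct Opposite TopologicalSpace

namespace Groth.Agent.Betti

variable {Y Z : Scheme.{u}} (g : Z ⟶ Y) (p : Z)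

/-- The fibre functor `M ↦ O_{Z,p} ⊗ M_{g p}`. -/
noncomputable abbrev fib : Y.Modules ⥤ ModuleCat.{u} (Z.presheaf.stalk p) :=
  DerSch.stalkFunctor Y (g.base p) ⋙ ModuleCat.extendScalars.{u, u, u} (g.stalkMap p).hom

/-- Evaluation of sections in the fibre. -/
noncomputable def ev (M : Y.Modules) (U : Y.Opens) (hU : g.base p ∈ U) :
    M.presheaf.obj (op U) →+ (fib g p).obj M :=
  letI := (g.stalkMap p).hom.toAlgebra
  { toFun := fun s => ((1 : Z.presheaf.stalk p) ⊗ₜ[Y.presheaf.stalk (g.base p)]
      ((M.presheaf.germ U (g.base p) hU s : M.presheaf.stalk (g.base p))) :)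
    map_zero' := by rw [map_zero]; exact tmul_zero _ _
    map_add' := fun a b => by rw [map_add]; exact tmul_add _ _ _ }

lemma ev_natural {M N : Y.Modules} (f : M ⟶ N) (U : Y.Opens) (hU : g.base p ∈ U)
    (s : M.presheaf.obj (op U)) :
    (fib g p).map f (ev g p M U hU s) = ev g p N U hU (f.app U s) := by
  letI := (g.stalkMap p).hom.toAlgebra
  refine Eq.trans ?_ (congrArg (fun t => ((1 : Z.presheaf.stalk p) ⊗ₜ[Y.presheaf.stalk (g.base p)] t))
    (DerSch.stalkFunctor_map_germ (g.base p) f U hU s))
  rfl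

lemma ev_res {M : Y.Modules} {U V : Y.Opens} (h : V ≤ U) (hV : g.base p ∈ V)
    (s : M.presheaf.obj (op U)) :
    ev g p M V hV (M.presheaf.map (homOfLE h).op s) = ev g p M U (h hV) s := by
  letI := (g.stalkMap p).hom.toAlgebra
  exact congrArg (fun t => ((1 : Z.presheaf.stalk p) ⊗ₜ[Y.presheaf.stalk (g.base p)] t))
    (M.presheaf.germ_res_apply (homOfLE h) (g.base p) hV s)

lemma exists_ev (hs : Function.Surjective (g.stalkMap p)) (M : Y.Modules) (v : (fib g p).obj M) :
    ∃ (U : Y.Opens) (hU : g.base p ∈ U) (s : M.presheaf.obj (op U)), ev g p M U hU s = v := by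
  letI := (g.stalkMap p).hom.toAlgebra
  induction v using TensorProduct.induction_on with
  | zero => exact ⟨⊤, trivial, 0, map_zero _⟩
  | tmul k m =>
    obtain ⟨a, rfl⟩ := hs k
    obtain ⟨U, hU, s, hs'⟩ := M.presheaf.exists_germ_eq (x := g.base p)
      ((a • (show (DerSch.stalkFunctor Y (g.base p)).obj M from m) : (DerSch.stalkFunctor Y (g.base p)).obj M) :
        M.presheaf.stalk (g.base p))
    refine ⟨U, hU, s, ?_⟩
    refine Eq.trans (congrArg (fun t => ((1 : Z.presheaf.stalk p) ⊗ₜ[Y.presheaf.stalk (g.base p)]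
      (show (DerSch.stalkFunctor Y (g.base p)).obj M from t))) hs') ?_
    refine (TensorProduct.tmul_smul _ _ _).trans ?_
    rw [TensorProduct.smul_tmul', Algebra.smul_def, mul_one]
    rfl
  | add v w hv hw =>
    obtain ⟨U, hU, s, rfl⟩ := hv
    obtain ⟨V, hV, t, rfl⟩ := hw
    refine ⟨U ⊓ V, ⟨hU, hV⟩, M.presheaf.map (homOfLE inf_le_left).op s +
      M.presheaf.map (homOfLE inf_le_right).op t, ?_⟩
    rw [map_add, ev_res, ev_res]

/-- Evaluation of functions at the point. -/
noncomputable def ψ (U : Y.Opens) (hU : g.base p ∈ U) : Y.presheaf.obj (op U) →+* Z.presheaf.stalk p :=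
  (g.stalkMap p).hom.comp (Y.presheaf.germ U (g.base p) hU).hom

/-- The fibre of the structure sheaf, identified with `O_{Z,p}`. -/
noncomputable def θ : (fib g p).obj (Coh.structureModule Y) →ₗ[Z.presheaf.stalk p] Z.presheaf.stalk p :=
  (((ModuleCat.extendRestrictScalarsAdj (g.stalkMap p).hom).homEquiv
      ((DerSch.stalkFunctor Y (g.base p)).obj (Coh.structureModule Y))
      (ModuleCat.of (Z.presheaf.stalk p) (Z.presheaf.stalk p))).symm
    (ModuleCat.ofHom (X := (DerSch.stalkFunctor Y (g.base p)).obj (Coh.structureModule Y))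
      (Y := (ModuleCat.restrictScalars (g.stalkMap p).hom).obj
        (ModuleCat.of (Z.presheaf.stalk p) (Z.presheaf.stalk p)))
      { toFun := fun m => (g.stalkMap p).hom
          ((LinearEquiv.ofBijective (KFlat.oneMap (g.base p)) (KFlat.oneMap_bijective (g.base p))).symm m)
        map_add' := fun a b => by simp only [map_add]
        map_smul' := fun r m => by
          refine (congrArg (g.stalkMap p).hom
            ((LinearEquiv.ofBijective (KFlat.oneMap (g.base p)) (KFlat.oneMap_bijective (g.base p))).symm.map_smul r m)).trans ?_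
          exact map_mul _ _ _ })).hom

lemma θ_ev (U : Y.Opens) (hU : g.base p ∈ U) (r : Y.presheaf.obj (op U)) :
    θ g p (ev g p (Coh.structureModule Y) U hU r) = ψ g p U hU r := by
  refine Eq.trans (one_mul _) ?_
  refine congrArg (g.stalkMap p).hom ?_
  refine (LinearEquiv.symm_apply_eq _).2 ?_
  exact (KFlat.oneMap_germ hU r).symm

lemma θ_bijective : Function.Bijective (θ g p) := by
  letI := (g.stalkMap p).hom.toAlgebra
  let e : (fib g p).obj (Coh.structureModule Y) :=
    ev g p (Coh.structureModule Y) ⊤ trivial (1 : Y.presheaf.obj (op ⊤))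
  have h1 : θ g p e = 1 := by rw [θ_ev, map_one]
  have h2 : ∀ k : Z.presheaf.stalk p, θ g p (k • e) = k := fun k => by
    rw [map_smul, h1, smul_eq_mul, mul_one]
  refine ⟨Function.LeftInverse.injective (g := fun k => k • e) fun v => ?_, fun k => ⟨_, h2 k⟩⟩
  induction v using TensorProduct.induction_on with
  | zero => exact (congrArg (· • e) (map_zero (θ g p))).trans (zero_smul _ _)
  | tmul k m =>
    obtain ⟨r, rfl⟩ := (KFlat.oneMap_bijective (g.base p)).2 m
    have : θ g p (k ⊗ₜ[Y.presheaf.stalk (g.base p)] KFlat.oneMap (g.base p) r) =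
        (show Z.presheaf.stalk p from k) * (g.stalkMap p).hom r := by
      refine congrArg ((show Z.presheaf.stalk p from k) * (g.stalkMap p).hom ·) ?_
      exact LinearEquiv.symm_apply_apply
        (LinearEquiv.ofBijective (KFlat.oneMap (g.base p)) (KFlat.oneMap_bijective (g.base p))) r
    refine (congrArg (· • e) this).trans ?_
    refine Eq.trans ?_ (TensorProduct.tmul_smul r k
      (show (DerSch.stalkFunctor Y (g.base p)).obj (Coh.structureModule Y) from
        KFlat.pgerm (KFlat.pone Y) (g.base p) ⊤ trivial (1 : Y.presheaf.obj (op ⊤)))).symm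
    have key : ∀ k' : Z.presheaf.stalk p, ((k' * (g.stalkMap p).hom r) * 1) ⊗ₜ[Y.presheaf.stalk (g.base p)]
        (show (DerSch.stalkFunctor Y (g.base p)).obj (Coh.structureModule Y) from
          KFlat.pgerm (KFlat.pone Y) (g.base p) ⊤ trivial (1 : Y.presheaf.obj (op ⊤))) =
        ((g.stalkMap p).hom r * k') ⊗ₜ[Y.presheaf.stalk (g.base p)]
        (show (DerSch.stalkFunctor Y (g.base p)).obj (Coh.structureModule Y) from
          KFlat.pgerm (KFlat.pone Y) (g.base p) ⊤ trivial (1 : Y.presheaf.obj (op ⊤))) := fun k' => by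
      rw [mul_one, mul_comm]
    exact key k
  | add a b ha hb =>
    exact (congrArg (· • e) (map_add (θ g p) a b)).trans ((add_smul _ _ _).trans (congrArg₂ (· + ·) ha hb))

/-- A module is split free of rank `n`. -/
structure Split {Y : Scheme.{u}} (M : Y.Modules) (n : ℕ) where
  /-- coordinates -/
  π : Fin n → (M ⟶ Coh.structureModule Y)
  /-- basis -/
  ι : Fin n → (Coh.structureModule Y ⟶ M)
  ι_π : ∀ j k, ι j ≫ π k = if j = k then 𝟙 _ else 0
  sum : ∑ j, π j ≫ ι j = 𝟙 M

/-- Split data of a free module. -/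
noncomputable def Split.ofIso {M : Y.Modules} {n : ℕ} (e : M ≅ FlatMod.freeMod Y n) : Split M n where
  π k := e.hom ≫ Sigma.desc fun j => if j = k then 𝟙 _ else 0
  ι j := Sigma.ι (fun _ : Fin n => Coh.structureModule Y) j ≫ e.inv
  ι_π j k := by simp
  sum := by
    rw [← cancel_epi e.inv, ← cancel_mono e.hom, Preadditive.comp_sum, Preadditive.sum_comp]
    simp only [Category.assoc, Iso.inv_hom_id_assoc, Iso.inv_hom_id, Category.comp_id]
    refine Sigma.hom_ext _ _ fun j => ?_
    rw [Preadditive.comp_sum]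
    simp [ite_comp]

variable {M : Y.Modules} {n : ℕ} (S : Split M n)

instance additive_fib : (fib g p).Additive := inferInstance

/-- The coordinates on the fibre. -/
noncomputable def Split.equiv : (fib g p).obj M ≃ₗ[Z.presheaf.stalk p] (Fin n → Z.presheaf.stalk p) :=
  let θ' := LinearEquiv.ofBijective (θ g p) (θ_bijective g p)
  { toLinearMap := LinearMap.pi fun k => (θ g p).comp ((fib g p).map (S.π k)).hom
    invFun := fun c => ∑ j, ((fib g p).map (S.ι j)).hom (θ'.symm (c j))
    left_inv := fun v => by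
      have h : ((fib g p).map (∑ j, S.π j ≫ S.ι j)).hom v = v := by
        rw [S.sum, CategoryTheory.Functor.map_id]; rfl
      refine Eq.trans ?_ h
      rw [Functor.map_sum, ModuleCat.hom_sum, LinearMap.sum_apply]
      refine Finset.sum_congr rfl fun j _ => ?_
      rw [Functor.map_comp]
      exact congrArg ((fib g p).map (S.ι j)).hom (θ'.symm_apply_apply _)
    right_inv := fun c => by
      funext k
      change θ g p (((fib g p).map (S.π k)).hom (∑ j, ((fib g p).map (S.ι j)).hom (θ'.symm (c j)))) = c k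
      rw [map_sum, map_sum, Finset.sum_eq_single k]
      · change θ g p ((((fib g p).map (S.ι k)) ≫ (fib g p).map (S.π k)).hom (θ'.symm (c k))) = c k
        rw [← Functor.map_comp, S.ι_π, if_pos rfl, CategoryTheory.Functor.map_id]
        exact θ'.apply_symm_apply _
      · intro j _ hj
        change θ g p ((((fib g p).map (S.ι j)) ≫ (fib g p).map (S.π k)).hom (θ'.symm (c j))) = 0
        rw [← Functor.map_comp, S.ι_π, if_neg hj, Functor.map_zero]
        exact map_zero _
      · simp }

lemma Split.equiv_ev (U : Y.Opens) (hU : g.base p ∈ U) (s : M.presheaf.obj (op U)) (k : Fin n) :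
    S.equiv g p (ev g p M U hU s) k = ψ g p U hU ((S.π k).app U s) := by
  change θ g p ((fib g p).map (S.π k) (ev g p M U hU s)) = _
  rw [ev_natural, θ_ev]

include S in
lemma Split.finite : Module.Finite (Z.presheaf.stalk p) ((fib g p).obj M) :=
  Module.Finite.equiv (S.equiv g p).symm

include S in
lemma Split.finrank_eq [Nontrivial (Z.presheaf.stalk p)] :
    Module.finrank (Z.presheaf.stalk p) ((fib g p).obj M) = n := by
  rw [(S.equiv g p).finrank_eq, Module.finrank_fin_fun]

/-- The rank of a map in the fibre. -/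
noncomputable def rk {M N : Y.Modules} (f : M ⟶ N) : ℕ :=
  Module.finrank (Z.presheaf.stalk p) (LinearMap.range ((fib g p).map f).hom)

lemma exists_common_open {r : ℕ} (hs : Function.Surjective (g.stalkMap p)) {M : Y.Modules}
    (v : Fin r → (fib g p).obj M) :
    ∃ (U : Y.Opens) (hU : g.base p ∈ U) (s : Fin r → M.presheaf.obj (op U)),
      ∀ j, ev g p M U hU (s j) = v j := by
  choose U hU s hv using fun j => exists_ev g p hs M (v j)
  have hx : g.base p ∈ Finset.univ.inf U :=
    Finset.inf_induction (p := fun V : Y.Opens => g.base p ∈ V) trivial (fun _ h _ h' => ⟨h, h'⟩) fun j _ => hU j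
  refine ⟨_, hx, fun j => M.presheaf.map (homOfLE (Finset.inf_le (Finset.mem_univ j))).op (s j), fun j => ?_⟩
  rw [ev_res]
  exact hv j

/-- **Lower semicontinuity of the rank.** -/
theorem exists_nhd_le_rk (hp : IsField (Z.presheaf.stalk p))
    (hs : Function.Surjective (g.stalkMap p)) {M N : Y.Modules} {n : ℕ} (S : Split N n) (f : M ⟶ N) :
    ∃ O : Y.Opens, g.base p ∈ O ∧ ∀ {Z' : Scheme.{u}} (g' : Z' ⟶ Y) (p' : Z'),
      IsField (Z'.presheaf.stalk p') → g'.base p' ∈ O → rk g p f ≤ rk g' p' f := by
  letI : Field (Z.presheaf.stalk p) := hp.toField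
  have := S.finite g p
  obtain ⟨w, hw⟩ : ∃ w : Fin (rk g p f) → LinearMap.range ((fib g p).map f).hom,
      LinearIndependent (Z.presheaf.stalk p) w :=
    exists_linearIndependent_of_le_finrank le_rfl
  have hw' : LinearIndependent (Z.presheaf.stalk p) (fun j => (w j : (fib g p).obj N)) :=
    hw.map' _ (Submodule.ker_subtype _)
  choose v hv using fun j => LinearMap.mem_range.1 (w j).2
  obtain ⟨U, hU, s, hsv⟩ := exists_common_open g p hs v
  let A : Matrix (Fin n) (Fin (rk g p f)) (Y.presheaf.obj (op U)) :=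
    Matrix.of fun k j => (S.π k).app U (f.app U (s j))
  have hA : ∀ (j : Fin (rk g p f)) (k : Fin n), S.equiv g p (w j : (fib g p).obj N) k = ψ g p U hU (A k j) := by
    intro j k
    rw [← hv j, ← hsv j]
    exact (congrArg (fun t => S.equiv g p t k) (ev_natural g p f U hU (s j))).trans (S.equiv_ev g p U hU _ k)
  have hinj : LinearMap.ker (Matrix.toLin' (A.map (ψ g p U hU))) = ⊥ := by
    rw [LinearMap.ker_eq_bot']
    intro c hc
    have h0 : ∑ j, c j • (w j : (fib g p).obj N) = 0 := by
      refine (S.equiv g p).map_eq_zero_iff.1 (funext fun k => ?_)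
      rw [map_sum, Finset.sum_apply]
      refine Eq.trans ?_ (congrFun hc k)
      simp [Matrix.toLin'_apply, Matrix.mulVec, dotProduct, mul_comm]
      exact Finset.sum_congr rfl fun x _ => congrArg (c x * ·) (hA x k)
    exact funext (Fintype.linearIndependent_iff.1 hw' c h0)
  obtain ⟨L, hL⟩ := LinearMap.exists_leftInverse_of_injective _ hinj
  obtain ⟨V, hV, C, hC⟩ : ∃ (V : Y.Opens) (hV : g.base p ∈ V)
      (C : Fin (rk g p f) × Fin n → Y.presheaf.obj (op V)),
      ∀ jk, ψ g p V hV (C jk) = LinearMap.toMatrix' L jk.1 jk.2 := by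
    choose V hV C hC using fun jk : Fin (rk g p f) × Fin n =>
      TopCat.Presheaf.exists_germ_eq Y.presheaf (x := g.base p) (hs (LinearMap.toMatrix' L jk.1 jk.2)).choose
    have hx : g.base p ∈ Finset.univ.inf V :=
      Finset.inf_induction (p := fun V : Y.Opens => g.base p ∈ V) trivial (fun _ h _ h' => ⟨h, h'⟩)
        fun j _ => hV j
    refine ⟨_, hx, fun jk => Y.presheaf.map (homOfLE (Finset.inf_le (Finset.mem_univ jk))).op (C jk),
      fun jk => ?_⟩
    change (g.stalkMap p).hom (Y.presheaf.germ _ _ _ _) = _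
    rw [TopCat.Presheaf.germ_res_apply, hC]
    exact (hs (LinearMap.toMatrix' L jk.1 jk.2)).choose_spec
  let W := V ⊓ U
  let rV := (Y.presheaf.map (homOfLE (inf_le_left : W ≤ V)).op).hom
  let rU := (Y.presheaf.map (homOfLE (inf_le_right : W ≤ U)).op).hom
  let B : Matrix (Fin (rk g p f)) (Fin n) (Y.presheaf.obj (op W)) := Matrix.of fun j k => rV (C (j, k))
  let D := (B * A.map rU).det
  have hψV : ∀ c, ψ g p W ⟨hV, hU⟩ (rV c) = ψ g p V hV c := fun c =>
    congrArg (g.stalkMap p).hom (TopCat.Presheaf.germ_res_apply Y.presheaf _ _ _ c)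
  have hψU : ∀ c, ψ g p W ⟨hV, hU⟩ (rU c) = ψ g p U hU c := fun c =>
    congrArg (g.stalkMap p).hom (TopCat.Presheaf.germ_res_apply Y.presheaf _ _ _ c)
  have hD : ψ g p W ⟨hV, hU⟩ D = 1 := by
    rw [RingHom.map_det]
    have : (ψ g p W ⟨hV, hU⟩).mapMatrix (B * A.map rU) = LinearMap.toMatrix' L * A.map (ψ g p U hU) := by
      rw [RingHom.mapMatrix_apply, Matrix.map_mul]
      congr 1
      · ext j k; simp [B, hψV, hC]
      · ext k j; simp [hψU]
    rw [this, ← LinearMap.toMatrix'_toLin' (A.map (ψ g p U hU)), ← LinearMap.toMatrix'_comp, hL,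
      LinearMap.toMatrix'_id, Matrix.det_one]
  refine ⟨Y.basicOpen D, ?_, ?_⟩
  · refine (Y.mem_basicOpen D (g.base p) ⟨hV, hU⟩).2 ?_
    exact isUnit_of_map_unit (g.stalkMap p).hom _ (by
      change IsUnit (ψ g p W ⟨hV, hU⟩ D)
      rw [hD]; exact isUnit_one)
  · intro Z' g' p' hp' hmem
    have hW : g'.base p' ∈ W := Y.basicOpen_le D hmem
    letI : Field (Z'.presheaf.stalk p') := hp'.toField
    have := S.finite g' p'
    have hunit : IsUnit (ψ g' p' W hW D) :=
      ((Y.mem_basicOpen D (g'.base p') hW).1 hmem).map (g'.stalkMap p').hom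
    let w' : Fin (rk g p f) → (fib g' p').obj N := fun j => ev g' p' N U hW.2 (f.app U (s j))
    have hw'' : LinearIndependent (Z'.presheaf.stalk p') w' := by
      rw [Fintype.linearIndependent_iff]
      intro c hc
      have h0 : Matrix.mulVec (A.map (ψ g' p' U hW.2)) c = 0 := by
        funext k
        have := congrFun (congrArg (S.equiv g' p') hc) k
        rw [map_zero, map_sum, Finset.sum_apply] at this
        refine Eq.trans ?_ this
        simp [Matrix.mulVec, dotProduct, w', A, mul_comm]
        exact Finset.sum_congr rfl fun x _ => congrArg (c x * ·) (S.equiv_ev g' p' U hW.2 _ k).symm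
      have hψ' : ∀ c', ψ g' p' W hW (rU c') = ψ g' p' U hW.2 c' := fun c' =>
        congrArg (g'.stalkMap p').hom (TopCat.Presheaf.germ_res_apply Y.presheaf _ _ _ c')
      have h1 : Matrix.mulVec ((ψ g' p' W hW).mapMatrix (B * A.map rU)) c = 0 := by
        rw [RingHom.mapMatrix_apply, Matrix.map_mul, ← Matrix.mulVec_mulVec]
        have : (A.map rU).map (ψ g' p' W hW) = A.map (ψ g' p' U hW.2) := by ext k j; simp [hψ']
        rw [this, h0, Matrix.mulVec_zero]
      have h2 : IsUnit ((ψ g' p' W hW).mapMatrix (B * A.map rU)) := by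
        rw [Matrix.isUnit_iff_isUnit_det, ← RingHom.map_det]
        exact hunit
      have := Matrix.mulVec_injective_iff_isUnit.2 h2 (a₁ := c) (a₂ := 0) (by rw [h1, Matrix.mulVec_zero])
      exact fun j => congrFun this j
    have hmem' : ∀ j, w' j ∈ LinearMap.range ((fib g' p').map f).hom := fun j =>
      ⟨ev g' p' M U hW.2 (s j), ev_natural g' p' f U hW.2 (s j)⟩
    have hli : LinearIndependent (Z'.presheaf.stalk p') (fun j => (⟨w' j, hmem' j⟩ :
        LinearMap.range ((fib g' p').map f).hom)) :=
      LinearIndependent.of_comp (LinearMap.range ((fib g' p').map f).hom).subtype hw''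
    have := hli.fintype_card_le_finrank
    rwa [Fintype.card_fin] at this

end Groth.Agent.Betti
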