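import Groth.Agent.Betti.Fibre
import Groth.Agent.DerPerf.PseudoCoh
import Groth.Agent.KFlat.TorFlat
import Groth.Prelude.Def_PerfD

/-!
# Betti numbers and Euler characteristic of complexes at points
-/

set_option backward.isDefEq.respectTransparency false
set_option backward.isDefEq.respectTransparency.types false
set_option linter.style.haveILetI false
set_option autoImplicit false

universe u

open CategoryTheory Limits AlgebraicGeometry Opposite TopologicalSpace HomologicalComplex

attribute [local instance] HasDerivedCategory.standard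

namespace Groth.Agent.Betti

/-- The dimension formula for the homology of vector spaces. -/
lemma finrank_homology {K : Type u} [Field K] (S : ShortComplex (ModuleCat.{u} K))
    [Module.Finite K S.X₂] :
    Module.finrank K S.homology + Module.finrank K (LinearMap.range S.f.hom) +
      Module.finrank K (LinearMap.range S.g.hom) = Module.finrank K S.X₂ := by
  have h1 := LinearMap.finrank_range_add_finrank_ker S.g.hom
  have h2 : Module.finrank K (LinearMap.range S.moduleCatToCycles) =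
      Module.finrank K (LinearMap.range S.f.hom) := by
    have : LinearMap.range S.f.hom =
        (LinearMap.range S.moduleCatToCycles).map (LinearMap.ker S.g.hom).subtype := by
      rw [← LinearMap.range_comp]
      rfl
    rw [this]
    exact (Submodule.equivMapOfInjective _ (Submodule.injective_subtype _) _).finrank_eq
  have h3 := Submodule.finrank_quotient_add_finrank (LinearMap.range S.moduleCatToCycles)
  have h4 : Module.finrank K S.homology =
      Module.finrank K (LinearMap.ker S.g.hom ⧸ LinearMap.range S.moduleCatToCycles) :=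
    S.moduleCatHomologyIso.toLinearEquiv.finrank_eq
  omega

variable {Z : Scheme.{u}}

lemma germ_top_bijective [Subsingleton Z] (p : Z) (F : Z.Opensᵒᵖ ⥤ Ab.{u}) :
    Function.Bijective (TopCat.Presheaf.germ (X := Z.toTopCat) F ⊤ p trivial) := by
  have htop : ∀ U : Z.Opens, p ∈ U → U = ⊤ := fun U hU =>
    top_le_iff.1 fun q _ => Subsingleton.elim p q ▸ hU
  constructor
  · intro a b hab
    obtain ⟨W, hW, i, j, h⟩ := TopCat.Presheaf.germ_eq (X := Z.toTopCat) F p (show p ∈ (⊤ : Z.Opens) from trivial) (show p ∈ (⊤ : Z.Opens) from trivial) a b hab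
    obtain rfl := htop W hW
    rw [Subsingleton.elim i (𝟙 _), Subsingleton.elim j (𝟙 _), op_id, F.map_id] at h
    exact h
  · intro v
    obtain ⟨U, hU, s, rfl⟩ := TopCat.Presheaf.exists_germ_eq (X := Z.toTopCat) F (x := p) v
    obtain rfl := htop U hU
    exact ⟨s, rfl⟩

/-- Global sections and the stalk have the same dimension on a one-point scheme. -/
lemma finrank_sections [Subsingleton Z] (p : Z) (M : Z.Modules) :
    Module.finrank (Coh.Γtop Z) (M.val.obj (op ⊤)) =
      Module.finrank (Z.presheaf.stalk p) ((DerSch.stalkFunctor Z p).obj M) := by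
  have hM := germ_top_bijective p M.presheaf
  have hO := germ_top_bijective p (Z.presheaf ⋙ forget₂ CommRingCat RingCat ⋙ forget₂ RingCat AddCommGrpCat)
  have hO' : Function.Bijective (Z.presheaf.germ ⊤ p trivial) := by
    constructor
    · intro a b hab
      obtain ⟨W, hW, i, j, h⟩ := TopCat.Presheaf.germ_eq Z.presheaf p (show p ∈ (⊤ : Z.Opens) from trivial) (show p ∈ (⊤ : Z.Opens) from trivial) a b hab
      have : W = ⊤ := top_le_iff.1 fun q _ => Subsingleton.elim p q ▸ hW
      subst this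
      rw [Subsingleton.elim i (𝟙 _), Subsingleton.elim j (𝟙 _), op_id, Z.presheaf.map_id] at h
      exact h
    · intro v
      obtain ⟨U, hU, s, rfl⟩ := TopCat.Presheaf.exists_germ_eq Z.presheaf (x := p) v
      have : U = ⊤ := top_le_iff.1 fun q _ => Subsingleton.elim p q ▸ hU
      subst this
      exact ⟨s, rfl⟩
  let j : M.val.obj (op ⊤) ≃+ ((DerSch.stalkFunctor Z p).obj M) :=
    AddEquiv.ofBijective (M.presheaf.germ ⊤ p trivial).hom hM
  have hj : ∀ (r : Coh.Γtop Z) (m : M.val.obj (op ⊤)),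
      j (r • m) = (Z.presheaf.germ ⊤ p trivial).hom r • j m := fun r m =>
    PresheafOfModules.germ_smul (R := Z.presheaf)
      (show PresheafOfModules (Z.presheaf ⋙ forget₂ CommRingCat RingCat) from M.val) p ⊤ trivial r m
  unfold Module.finrank
  rw [rank_eq_of_equiv_equiv (R := Coh.Γtop Z) (R' := Z.presheaf.stalk p)
    (Z.presheaf.germ ⊤ p trivial) j hO' hj]

/-- Fibre complexes. -/
noncomputable abbrev fibCx {Y : Scheme.{u}} (g : Z ⟶ Y) (p : Z) :
    CochainComplex Y.Modules ℤ ⥤ CochainComplex (ModuleCat.{u} (Z.presheaf.stalk p)) ℤ :=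
  (fib g p).mapHomologicalComplex (ComplexShape.up ℤ)

/-- Sections of the cohomology of a pullback on a one-point scheme. -/
lemma finrank_homology_pullback [Subsingleton Z] {Y : Scheme.{u}} (g : Z ⟶ Y) (p : Z)
    (P : CochainComplex Y.Modules ℤ) (i : ℤ) :
    Module.finrank (Coh.Γtop Z)
      (((((Scheme.Modules.pullback g).mapHomologicalComplex (ComplexShape.up ℤ)).obj P).homology i).val.obj (op ⊤)) =
      Module.finrank (Z.presheaf.stalk p) (((fibCx g p).obj P).homology i) := by
  rw [finrank_sections p]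
  let C := ((Scheme.Modules.pullback g).mapHomologicalComplex (ComplexShape.up ℤ)).obj P
  let e : ((DerSch.stalkFunctor Z p).mapHomologicalComplex (ComplexShape.up ℤ)).obj C ≅ (fibCx g p).obj P :=
    HomologicalComplex.Hom.isoOfComponents (fun n => (KFlat.pullStalkIso g p).app (P.X n))
      fun a b _ => ((KFlat.pullStalkIso g p).hom.naturality (P.d a b)).symm
  exact ((((C.sc i).mapHomologyIso (DerSch.stalkFunctor Z p)).symm ≪≫
    (HomologicalComplex.homologyFunctor _ _ i).mapIso e).toLinearEquiv).finrank_eq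

/-- The dimension formula for fibre complexes. -/
lemma finrank_homology_fibCx {Y : Scheme.{u}} (g : Z ⟶ Y) (p : Z) (hp : IsField (Z.presheaf.stalk p))
    (P : CochainComplex Y.Modules ℤ) (i : ℤ) {n : ℕ} (S : Split (P.X i) n) :
    Module.finrank (Z.presheaf.stalk p) (((fibCx g p).obj P).homology i) +
      rk g p (P.d (i - 1) i) + rk g p (P.d i (i + 1)) = n := by
  letI : Field (Z.presheaf.stalk p) := hp.toField
  have : Module.Finite (Z.presheaf.stalk p) ((fib g p).obj (P.X i)) := S.finite g p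
  let T : ShortComplex (ModuleCat.{u} (Z.presheaf.stalk p)) :=
    ((fibCx g p).obj P).sc' (i - 1) i (i + 1)
  have hf : Module.Finite (Z.presheaf.stalk p) T.X₂ := this
  have h := finrank_homology T
  have e : Module.finrank (Z.presheaf.stalk p) (((fibCx g p).obj P).homology i) =
      Module.finrank (Z.presheaf.stalk p) T.homology :=
    (ShortComplex.homologyMapIso (((fibCx g p).obj P).isoSc' (i - 1) i (i + 1)
      (by simp) (by simp))).toLinearEquiv.finrank_eq
  have e2 : Module.finrank (Z.presheaf.stalk p) T.X₂ = n := S.finrank_eq g p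
  rw [e]
  exact h.trans e2

variable {X : Scheme.{u}}

lemma subsingleton_SpecField (x : X) : Subsingleton (Spec (X.residueField x)) :=
  inferInstanceAs (Subsingleton (PrimeSpectrum (X.residueField x)))

lemma isField_stalk_SpecField (R : CommRingCat.{u}) (hR : IsField R) (p : Spec R) :
    IsField ((Spec R).presheaf.stalk p) := by
  letI : Algebra R ((Spec R).presheaf.stalk p) := (StructureSheaf.toStalk R p).hom.toAlgebra
  haveI : IsLocalization p.asIdeal.primeCompl ((Spec R).presheaf.stalk p) :=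
    inferInstanceAs (IsLocalization.AtPrime ((AlgebraicGeometry.structurePresheafInCommRingCat R).stalk p) p.asIdeal)
  letI : Field R := hR.toField
  have hu : p.asIdeal.primeCompl ≤ IsUnit.submonoid R := fun r hr =>
    Ne.isUnit (fun h0 => hr (by rw [h0]; exact p.asIdeal.zero_mem))
  exact MulEquiv.isField (Field.toIsField R)
    (IsLocalization.atUnits R p.asIdeal.primeCompl hu).symm.toMulEquiv

/-- Isomorphism of cohomology of pullbacks in the range of an `m`-isomorphism. -/
lemma nonempty_homology_iso {V : Scheme.{u}} (f : Z ⟶ V) (m : ℤ) {E' K' : CochainComplex V.Modules ℤ}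
    (hE' : DCoh.IsKFlat E') (hK' : DCoh.IsKFlat K')
    (α : DerivedCategory.Q.obj E' ⟶ DerivedCategory.Q.obj K') (hα : DerPerf.MIso m α) (i : ℤ) (hi : m < i) :
    Nonempty ((((Scheme.Modules.pullback f).mapHomologicalComplex (ComplexShape.up ℤ)).obj E').homology i ≅
      (((Scheme.Modules.pullback f).mapHomologicalComplex (ComplexShape.up ℤ)).obj K').homology i) := by
  obtain ⟨E₁, s, hs, a, ha⟩ := DerivedCategory.right_fac α
  let E₂ := (KFlat.resF V).obj E₁
  let t : E₂ ⟶ E₁ := (KFlat.resψ V).app E₁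
  have hE₂ : DCoh.IsKFlat E₂ := KFlat.isKFlat_resF E₁
  have hts : IsIso (DerivedCategory.Q.map (t ≫ s)) := by rw [Functor.map_comp]; infer_instance
  have hts' : QuasiIso (t ≫ s) := (DerivedCategory.isIso_Q_map_iff_quasiIso _ (t ≫ s)).1 hts
  have ha' : DerivedCategory.Q.map (t ≫ a) = DerivedCategory.Q.map (t ≫ s) ≫ α := by
    rw [ha, Functor.map_comp, Functor.map_comp, Category.assoc, IsIso.hom_inv_id_assoc]
  have h₁ : DerPerf.MIso m (DerivedCategory.Q.map (t ≫ a)) := by
    rw [ha']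
    simpa using DerPerf.mIso_iso_comp m (@asIso _ _ _ _ _ hts) α (Iso.refl _) hα
  let P := (Scheme.Modules.pullback f).mapHomologicalComplex (ComplexShape.up ℤ)
  have hC : DCoh.IsKFlat (CochainComplex.mappingCone (t ≫ a)) :=
    KFlat.rflat_mappingCone_sch _ hE₂ hK'
  have h₂ : ∀ j, m ≤ j → IsZero ((CochainComplex.mappingCone (P.map (t ≫ a))).homology j) := fun j hj =>
    (DerPerf.isZero_homology_pullback f hC m ((DerPerf.mIso_Q_map_iff m _).1 h₁) j hj).of_iso
      ((homologyFunctor _ _ j).mapIso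
        (CochainComplex.mappingCone.mapHomologicalComplexIso (t ≫ a) (Scheme.Modules.pullback f))).symm
  have := ((DerPerf.cone_isZero_iff (P.map (t ≫ a)) m).1 h₂).1 i hi
  have := KFlat.quasiIso_map_of_kFlat (KFlat.kFlatAcyclic_pullback f) (t ≫ s) hE₂ hE'
  exact ⟨(isoOfQuasiIsoAt (P.map (t ≫ s)) i).symm ≪≫ asIso (homologyMap (P.map (t ≫ a)) i)⟩

/-- A local model of `E` in the degrees in `D`, on an open `W`. -/
def IsModel [∀ x : X, DCoh.HasLpull (X.fromSpecResidueField x)] (E : DCoh.D X) (D : Set ℤ) (W : X.Opens)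
    (P : CochainComplex (W : Scheme.{u}).Modules ℤ) : Prop :=
  ∀ (x : X) (hx : x ∈ W), ∃ (Z : Scheme.{u}) (g : Z ⟶ W) (p : Z),
    IsField (Z.presheaf.stalk p) ∧ Function.Surjective (g.stalkMap p) ∧ g.base p = ⟨x, hx⟩ ∧
    ∀ i ∈ D, PerfD.betti E x i = Module.finrank (Z.presheaf.stalk p) (((fibCx g p).obj P).homology i)

theorem exists_model [∀ x : X, DCoh.HasLpull (X.fromSpecResidueField x)] (E : DCoh.D X) (D : Set ℤ)
    {F : CochainComplex X.Modules ℤ} (hF : DCoh.IsKFlat F) (e : DCoh.toD X F ≅ E) (U : X.Opens)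
    (P : CochainComplex (U : Scheme.{u}).Modules ℤ) (hP : DCoh.IsStrictlyPerfect P)
    (α : DerivedCategory.Q.obj P ⟶ DerivedCategory.Q.obj ((DCoh.restrictCx U).obj F))
    (hα : ∀ i ∈ D, ∃ m < i, DerPerf.MIso m α) (x₀ : X) (hx₀ : x₀ ∈ U) (s : Finset ℤ) :
    ∃ (W : X.Opens) (P' : CochainComplex (W : Scheme.{u}).Modules ℤ),
      x₀ ∈ W ∧ IsModel E D W P' ∧ (∀ i ∈ s, ∃ n, Nonempty (Split (P'.X i) n)) ∧
      ∀ i, IsZero (P.X i) → IsZero (P'.X i) := by
  obtain ⟨W₀, hW₀, hfree⟩ := DerPerf.exists_common_free s (fun i => P.X i) (fun i _ => hP.2 i) ⟨x₀, hx₀⟩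
  let W : X.Opens := U.ι ''ᵁ W₀
  have hWU : W ≤ U := U.ι_image_le W₀
  let j : (W : Scheme.{u}) ⟶ U := X.homOfLE hWU
  have hfree' : ∀ i ∈ s, ∃ n, Nonempty ((Scheme.Modules.pullback j).obj (P.X i) ≅ FlatMod.freeMod _ n) := by
    intro i hi
    obtain ⟨n, ⟨e⟩⟩ := hfree i hi
    let k : (W : Scheme.{u}) ⟶ (W₀ : Scheme.{u}) := IsOpenImmersion.lift W₀.ι j (by
      rintro _ ⟨w, rfl⟩
      rw [Scheme.Opens.range_ι]
      have hw : (U.ι.base (j.base w)) ∈ W := by
        rw [← Scheme.Hom.comp_apply, X.homOfLE_ι hWU]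
        exact w.2
      obtain ⟨z, hz, hz'⟩ := hw
      have : z = j.base w := U.ι.isOpenEmbedding.injective hz'
      exact this ▸ hz)
    exact ⟨n, ⟨(Scheme.Modules.pullbackCongr (IsOpenImmersion.lift_fac W₀.ι j _)).symm.app _ ≪≫
      (Scheme.Modules.pullbackComp k W₀.ι).symm.app _ ≪≫ (Scheme.Modules.pullback k).mapIso e ≪≫
      DerPerf.pullFreeIso k n⟩⟩
  refine ⟨W, ((Scheme.Modules.pullback j).mapHomologicalComplex (ComplexShape.up ℤ)).obj P,
    ⟨⟨x₀, hx₀⟩, hW₀, rfl⟩, fun x hx => ?_, fun i hi => ?_,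
    fun i hi => (Scheme.Modules.pullback j).map_isZero hi⟩
  · let R := X.residueField x
    have := subsingleton_SpecField x
    let pt : Spec R := default
    let g' : Spec R ⟶ (W : Scheme.{u}) := IsOpenImmersion.lift W.ι (X.fromSpecResidueField x) (by
      rw [Scheme.range_fromSpecResidueField, Scheme.Opens.range_ι]
      exact Set.singleton_subset_iff.2 hx)
    have hg' : g' ≫ W.ι = X.fromSpecResidueField x := IsOpenImmersion.lift_fac _ _ _
    have hgx : g'.base pt = ⟨x, hx⟩ := Subtype.ext (by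
      change W.ι.base (g'.base pt) = x
      rw [← Scheme.Hom.comp_apply, hg']
      exact X.fromSpecResidueField_apply x pt)
    have : IsPreimmersion g' := by
      have : IsPreimmersion (g' ≫ W.ι) := by rw [hg']; infer_instance
      exact IsPreimmersion.of_comp g' W.ι
    refine ⟨Spec R, g', pt, isField_stalk_SpecField R (Field.toIsField _) pt,
      g'.stalkMap_surjective pt, hgx, fun i hi => ?_⟩
    let g : Spec R ⟶ (U : Scheme.{u}) := g' ≫ j
    have hg : g ≫ U.ι = X.fromSpecResidueField x := by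
      rw [Category.assoc, X.homOfLE_ι hWU, hg']
    have hK : DCoh.IsKFlat ((DCoh.restrictCx U).obj F) := DerPerf.isKFlat_restrictCx U hF
    obtain ⟨m, hm, hmα⟩ := hα i hi
    obtain ⟨e₂⟩ := nonempty_homology_iso g m (DerPerf.isKFlat_of_isStrictlyPerfect hP) hK α hmα i hm
    let A := fun {V₁ V₂ : Scheme.{u}} (f : V₁ ⟶ V₂) =>
      (Scheme.Modules.pullback f).mapHomologicalComplex (ComplexShape.up ℤ)
    let N₁ : Scheme.Modules.pullback (X.fromSpecResidueField x) ≅
        Scheme.Modules.restrictFunctor U.ι ⋙ Scheme.Modules.pullback g :=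
      (Scheme.Modules.pullbackCongr hg).symm ≪≫ (Scheme.Modules.pullbackComp g U.ι).symm ≪≫
        Functor.isoWhiskerRight (Scheme.Modules.restrictFunctorIsoPullback U.ι).symm _
    let e₁ : (A (X.fromSpecResidueField x)).obj F ≅ (A g).obj ((DCoh.restrictCx U).obj F) :=
      HomologicalComplex.Hom.isoOfComponents (fun k => N₁.app (F.X k))
        fun a b _ => (N₁.hom.naturality (F.d a b)).symm
    let N₃ : Scheme.Modules.pullback j ⋙ Scheme.Modules.pullback g' ≅ Scheme.Modules.pullback g :=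
      Scheme.Modules.pullbackComp g' j
    let e₃ : (A g').obj ((A j).obj P) ≅ (A g).obj P :=
      HomologicalComplex.Hom.isoOfComponents (fun k => N₃.app (P.X k))
        fun a b _ => (N₃.hom.naturality (P.d a b)).symm
    let e₀ : DCoh.HD ((DCoh.Lpull (X.fromSpecResidueField x)).obj E) i ≅
        ((A g').obj ((A j).obj P)).homology i :=
      (DerivedCategory.homologyFunctor _ i).mapIso
          ((DCoh.Lpull (X.fromSpecResidueField x)).mapIso e.symm ≪≫
            KFlat.lpullIso (X.fromSpecResidueField x) hF) ≪≫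
        (DerivedCategory.homologyFunctorFactors _ i).app _ ≪≫
        (HomologicalComplex.homologyFunctor _ _ i).mapIso e₁ ≪≫ e₂.symm ≪≫
        (HomologicalComplex.homologyFunctor _ _ i).mapIso e₃.symm
    rw [← finrank_homology_pullback g' pt]
    exact (((SheafOfModules.forget (Spec R).ringCatSheaf ⋙
      PresheafOfModules.evaluation _ (op ⊤)).mapIso e₀).toLinearEquiv).finrank_eq
  · obtain ⟨n, ⟨e⟩⟩ := hfree' i hi
    exact ⟨n, ⟨Split.ofIso e⟩⟩

/-- **Upper semicontinuity of Betti numbers.** -/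
theorem isOpen_betti_lt [∀ x : X, DCoh.HasLpull (X.fromSpecResidueField x)] (E : DCoh.D X)
    (hE : ∀ m : ℤ, DCoh.IsPseudoCoherentD m E) (i : ℤ) (n : ℕ) :
    IsOpen {x : X | PerfD.betti E x i < n} := by
  rw [isOpen_iff_forall_mem_open]
  intro x₀ hx₀
  obtain ⟨F, hF, -, ⟨e⟩⟩ := KFlat.exists_isKFlat_rep E
  obtain ⟨U, hU, P, α, hP, hα⟩ := (DerPerf.isPseudoCoherent_iff_rep e).1 (hE (i - 1)) x₀
  obtain ⟨W, P', hW, hmod, hfree, -⟩ := exists_model E {i} hF e U P hP α
    (fun j hj => ⟨i - 1, by rw [Set.mem_singleton_iff.1 hj]; omega, hα⟩) x₀ hU {i, i + 1}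
  obtain ⟨N, ⟨S⟩⟩ := hfree i (by simp)
  obtain ⟨N', ⟨S'⟩⟩ := hfree (i + 1) (by simp)
  obtain ⟨Z, g, p, hp, hs, hgp, hb⟩ := hmod x₀ hW
  obtain ⟨O₁, hO₁, h₁⟩ := exists_nhd_le_rk g p hp hs S (P'.d (i - 1) i)
  obtain ⟨O₂, hO₂, h₂⟩ := exists_nhd_le_rk g p hp hs S' (P'.d i (i + 1))
  refine ⟨W.ι ''ᵁ (O₁ ⊓ O₂), ?_, (W.ι ''ᵁ (O₁ ⊓ O₂)).2, ⟨g.base p, ⟨hO₁, hO₂⟩, by rw [hgp]; rfl⟩⟩
  rintro x ⟨y, hy, rfl⟩
  obtain ⟨Z', g', p', hp', -, hgp', hb'⟩ := hmod _ y.2
  have hy' : g'.base p' = y := hgp'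
  have l₁ := h₁ g' p' hp' (hy'.symm ▸ hy.1)
  have l₂ := h₂ g' p' hp' (hy'.symm ▸ hy.2)
  have f₀ := finrank_homology_fibCx g p hp P' i S
  have f₁ := finrank_homology_fibCx g' p' hp' P' i S
  have a := hb i rfl
  have b := hb' i rfl
  simp only [Set.mem_setOf_eq] at hx₀ ⊢
  change PerfD.betti E y.1 i < n
  rw [b]
  omega

lemma finsum_negOnePow_eq {β r : ℤ → ℕ} {n : ℤ → ℕ} (h : ∀ i, β i + r (i - 1) + r i = n i)
    (s : Finset ℤ) (hs : ∀ i, i ∉ s → n i = 0) :
    (finsum fun i : ℤ => (i.negOnePow : ℤ) * (β i : ℤ)) = finsum fun i : ℤ => (i.negOnePow : ℤ) * (n i : ℤ) := by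
  have hr : ∀ i, i ∉ s → r i = 0 := fun i hi => by have := h i; have := hs i hi; omega
  have hr' : ∀ i, i ∉ s → r (i - 1) = 0 := fun i hi => by have := h i; have := hs i hi; omega
  have hβ : ∀ i, i ∉ s → β i = 0 := fun i hi => by have := h i; have := hs i hi; omega
  have hf : (fun i : ℤ => (i.negOnePow : ℤ) * (n i : ℤ)) = fun i : ℤ =>
      ((i.negOnePow : ℤ) * (β i : ℤ) + (i.negOnePow : ℤ) * (r (i - 1) : ℤ)) + (i.negOnePow : ℤ) * (r i : ℤ) := by
    funext i
    rw [← h i]
    push_cast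
    ring
  have sup : ∀ (f : ℤ → ℕ), (∀ i, i ∉ s → f i = 0) →
      (Function.support fun i : ℤ => (i.negOnePow : ℤ) * (f i : ℤ)).Finite := fun f hf =>
    s.finite_toSet.subset fun i hi => by
      by_contra hi'
      exact hi (by simp [hf i hi'])
  have s1 := sup β hβ
  have s2 := sup (fun i => r (i - 1)) hr'
  have s3 := sup r hr
  rw [hf, finsum_add_distrib ((s1.union s2).subset (Function.support_add _ _)) s3,
    finsum_add_distrib s1 s2]
  have : (finsum fun i : ℤ => (i.negOnePow : ℤ) * (r (i - 1) : ℤ)) =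
      - finsum fun i : ℤ => (i.negOnePow : ℤ) * (r i : ℤ) := by
    rw [← finsum_comp_equiv (Equiv.addRight (1 : ℤ)), ← finsum_neg_distrib]
    exact finsum_congr fun i => by simp [Int.negOnePow_succ]
  rw [this]
  ring

/-- **The Euler characteristic of a perfect complex is locally constant.** -/
theorem isLocallyConstant_eulerChar [∀ x : X, DCoh.HasLpull (X.fromSpecResidueField x)] (E : DCoh.D X)
    (hE : DCoh.IsPerfect E) : IsLocallyConstant (fun x : X => PerfD.eulerChar E x) := by
  rw [IsLocallyConstant.iff_exists_open]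
  intro x₀
  obtain ⟨F, hF, -, ⟨e⟩⟩ := KFlat.exists_isKFlat_rep E
  obtain ⟨U, hU, P, hP, ⟨u⟩⟩ := (DerPerf.isPerfect_iff_rep e).1 hE x₀
  obtain ⟨a, b, hab⟩ := hP.1
  let s : Finset ℤ := Finset.Icc a b
  have hzero : ∀ i, i ∉ s → IsZero (P.X i) := fun i hi => hab i (by
    simp only [s, Finset.mem_Icc, not_and_or, not_le] at hi
    exact hi)
  have hα : ∀ i ∈ (Set.univ : Set ℤ), ∃ m < i, DerPerf.MIso m u.inv := fun i _ =>
    ⟨i - 1, by omega, fun j _ => inferInstance, inferInstance⟩
  obtain ⟨W, P', hW, hmod, hfree, hz⟩ := exists_model E Set.univ hF e U P hP u.inv hα x₀ hU s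
  have hsplit : ∀ i, ∃ n, Nonempty (Split (P'.X i) n) ∧ (i ∉ s → n = 0) := fun i => by
    by_cases hi : i ∈ s
    · obtain ⟨n, hn⟩ := hfree i hi
      exact ⟨n, hn, fun h => absurd hi h⟩
    · exact ⟨0, ⟨⟨Fin.elim0, Fin.elim0, fun j => j.elim0,
        ((hz i (hzero i hi)).eq_of_src _ _)⟩⟩, fun _ => rfl⟩
  choose n hn hn0 using hsplit
  refine ⟨(W : Set X), W.2, hW, ?_⟩
  suffices key : ∀ x ∈ W, PerfD.eulerChar E x = finsum fun i : ℤ => (i.negOnePow : ℤ) * (n i : ℤ) from
    fun x hx => (key x hx).trans (key x₀ hW).symm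
  intro x hx
  obtain ⟨Z, g, p, hp, -, -, hb⟩ := hmod x hx
  refine finsum_negOnePow_eq (β := fun i => PerfD.betti E x i) (r := fun i => rk g p (P'.d i (i + 1)))
    (fun i => ?_) s hn0
  have h := finrank_homology_fibCx g p hp P' i (hn i).some
  rw [hb i (Set.mem_univ i)]
  rw [sub_add_cancel]
  exact h

end Groth.Agent.Betti
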